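import Groth.Agent.MultIndex.Lift
import Groth.Agent.CycLib.Push
import Groth.Agent.QsAlgLib.Point
import Groth.Agent.H23.FiniteFibreSum
import Groth.Prelude.Def_Models
import Groth.Prelude.Def_W4c5delpairindexchiIndex
import Mathlib.LinearAlgebra.Dimension.RankNullity
import Mathlib.AlgebraicGeometry.Morphisms.Finite

/-!
# The index of the generic fibre divides the multiplicities of the special fibre
-/

universe u

open CategoryTheory CategoryTheory.Limits AlgebraicGeometry IsLocalRing

set_option backward.isDefEq.respectTransparency false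
set_option linter.style.haveILetI false

namespace Groth.Agent.MultIndex

theorem finrank_mem_indexSubgroup {K : Type u} [Field K] {X : Scheme.{u}} (f : X ⟶ Spec (CommRingCat.of K))
    [LocallyOfFiniteType f] {F : Type u} [Field F] [Algebra K F] [Module.Finite K F]
    (g : Spec (CommRingCat.of F) ⟶ X) (hg : g ≫ f = Spec.map (CommRingCat.ofHom (algebraMap K F))) :
    (Module.finrank K F : ℤ) ∈ Curv2.indexSubgroup f := by
  have hfin : IsFinite (g ≫ f) := by
    rw [hg, IsFinite.SpecMap_iff]
    exact RingHom.finite_algebraMap.2 inferInstance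
  haveI : LocallyOfFiniteType (g ≫ f) := inferInstance
  haveI : LocallyOfFiniteType g := locallyOfFiniteType_of_comp g f
  haveI : JacobsonSpace X := LocallyOfFiniteType.jacobsonSpace f
  let t : Spec (CommRingCat.of F) := IsLocalRing.closedPoint F
  have hcl : IsClosed ({g t} : Set X) :=
    g.closePoints_subset_preimage_closedPoints (show t ∈ closedPoints _ from IsLocalRing.isClosed_singleton_closedPoint F)
  have h := CycLib.residueDegree_comp g f t
  rw [H23.FiniteFibreSum.residueDegree_congr' hg, QsAlgLib.residueDegree_specMap] at h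
  rw [h, mul_comm, Nat.cast_mul]
  have hmem : (f.residueDegree (g t) : ℤ) ∈ Curv2.indexSubgroup f :=
    AddSubgroup.subset_closure (Set.mem_image_of_mem _ hcl)
  have h2 := AddSubgroup.zsmul_mem _ hmem (Scheme.Hom.residueDegree g t : ℤ)
  simpa [smul_eq_mul] using h2

variable (R : Type u) [CommRing R] [IsDomain R]

/-- Ranks of finite modules over a finite algebra whose generic points map to `X` lie in the index subgroup. -/
theorem finrank_mem {X 𝒳 : Scheme.{u}} (f : X ⟶ Spec (CommRingCat.of (FractionRing R))) [LocallyOfFiniteType f]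
    (p : 𝒳 ⟶ Spec (CommRingCat.of R)) (i : X ⟶ 𝒳)
    (hi : IsPullback i f p (Spec.map (CommRingCat.ofHom (algebraMap R (FractionRing R)))))
    {T : Type u} [CommRing T] [Algebra R T] [Module.Finite R T] [IsNoetherianRing R]
    (j : Spec (CommRingCat.of T) ⟶ 𝒳) (hj : j ≫ p = Spec.map (CommRingCat.ofHom (algebraMap R T)))
    (M : Type u) [AddCommGroup M] [Module T M] [Module R M] [IsScalarTower R T M] [Module.Finite T M] :
    (Module.finrank R M : ℤ) ∈ Curv2.indexSubgroup f := by
  haveI : IsNoetherianRing T := isNoetherianRing_iff.2 (isNoetherian_of_tower R inferInstance)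
  suffices h : ∀ (N : Type u) [AddCommGroup N] [Module T N] [Module.Finite T N],
      ∀ [Module R N] [IsScalarTower R T N], (Module.finrank R N : ℤ) ∈ Curv2.indexSubgroup f from h M
  intro N _ _ _
  induction ‹Module.Finite T N› using IsNoetherianRing.induction_on_isQuotientEquivQuotientPrime with
  | subsingleton N =>
    intro _ _
    rw [Module.finrank_zero_of_subsingleton, Nat.cast_zero]
    exact zero_mem _
  | quotient N Q e =>
    intro _ _
    rw [(e.restrictScalars R).finrank_eq]
    by_cases hQ : Q.asIdeal.comap (algebraMap R T) = ⊥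
    · let D := T ⧸ Q.asIdeal
      haveI : FaithfulSMul R D := (faithfulSMul_iff_algebraMap_injective R D).2 <| by
        rw [IsScalarTower.algebraMap_eq R T D, injective_iff_map_eq_zero]
        intro r hr
        have : r ∈ Q.asIdeal.comap (algebraMap R T) := Ideal.mem_comap.2
          (Ideal.Quotient.eq_zero_iff_mem.1 (show Ideal.Quotient.mk Q.asIdeal (algebraMap R T r) = 0 from hr))
        rw [hQ] at this
        exact this
      haveI : Module.Finite R D :=
        Module.Finite.of_surjective (Ideal.Quotient.mkₐ R Q.asIdeal).toLinearMap Ideal.Quotient.mk_surjective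
      haveI : Algebra.IsAlgebraic R D := Algebra.IsIntegral.isAlgebraic
      letI := FractionRing.liftAlgebra R (FractionRing D)
      have hr : Module.finrank (FractionRing R) (FractionRing D) = Module.finrank R D := by
        simp only [Module.finrank]
        rw [Algebra.IsAlgebraic.rank_fractionRing R D]
      haveI : Module.Finite (FractionRing R) (FractionRing D) := by
        refine Module.finite_of_finrank_pos ?_
        rw [hr]
        exact Module.finrank_pos_iff_exists_ne_zero.2 ⟨1, one_ne_zero⟩
      rw [← hr]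
      let j' : Spec (CommRingCat.of (FractionRing D)) ⟶ 𝒳 :=
        Spec.map (CommRingCat.ofHom (algebraMap T (FractionRing D))) ≫ j
      refine finrank_mem_indexSubgroup f (hi.lift j'
        (Spec.map (CommRingCat.ofHom (algebraMap (FractionRing R) (FractionRing D)))) ?_) (hi.lift_snd _ _ _)
      simp only [j', Category.assoc, hj, ← Spec.map_comp]
      congr 1
      ext r
      show algebraMap T (FractionRing D) (algebraMap R T r) =
        algebraMap (FractionRing R) (FractionRing D) (algebraMap R (FractionRing R) r)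
      rw [← IsScalarTower.algebraMap_apply, ← IsScalarTower.algebraMap_apply]
    · obtain ⟨r, hr, hr0⟩ := Submodule.exists_mem_ne_zero_of_ne_bot hQ
      rw [show Module.finrank R (T ⧸ Q.asIdeal) = 0 from ?_, Nat.cast_zero]
      · exact zero_mem _
      haveI : Module.Finite R (T ⧸ Q.asIdeal) :=
        Module.Finite.of_surjective (Ideal.Quotient.mkₐ R Q.asIdeal).toLinearMap Ideal.Quotient.mk_surjective
      rw [Module.finrank_eq_zero_iff]
      intro x
      refine ⟨r, hr0, ?_⟩
      obtain ⟨t, rfl⟩ := Ideal.Quotient.mk_surjective x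
      show Ideal.Quotient.mk _ (r • t) = 0
      rw [Ideal.Quotient.eq_zero_iff_mem, Algebra.smul_def]
      exact Q.asIdeal.mul_mem_right t hr
  | exact N₁ N₂ N₃ g h hg hh hgh h₁ h₃ =>
    intro _ _
    letI : Module R N₁ := Module.compHom N₁ (algebraMap R T)
    letI : Module R N₃ := Module.compHom N₃ (algebraMap R T)
    haveI : IsScalarTower R T N₁ := IsScalarTower.of_compHom _ _ _
    haveI : IsScalarTower R T N₃ := IsScalarTower.of_compHom _ _ _
    haveI : Module.Finite R N₂ := Module.Finite.trans T N₂
    have e := Submodule.finrank_quotient_add_finrank (LinearMap.range (g.restrictScalars R))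
    have e1 : Module.finrank R (LinearMap.range (g.restrictScalars R)) = Module.finrank R N₁ :=
      (LinearEquiv.ofInjective (g.restrictScalars R) hg).finrank_eq.symm
    have e2 : Module.finrank R (N₂ ⧸ LinearMap.range (g.restrictScalars R)) = Module.finrank R N₃ := by
      have hk : LinearMap.range (g.restrictScalars R) = LinearMap.ker (h.restrictScalars R) :=
        (LinearMap.exact_iff.1 (show Function.Exact (g.restrictScalars R) (h.restrictScalars R) from hgh)).symm
      exact ((Submodule.quotEquivOfEq _ _ hk).trans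
        ((h.restrictScalars R).quotKerEquivOfSurjective hh)).finrank_eq
    rw [← e, e1, e2, Nat.cast_add]
    exact add_mem h₃ h₁

variable [IsDiscreteValuationRing R] [HenselianLocalRing R] [IsAlgClosed (ResidueField R)]

theorem exists_length_mem {X 𝒳 : Scheme.{u}} (f : X ⟶ Spec (CommRingCat.of (FractionRing R)))
    (p : 𝒳 ⟶ Spec (CommRingCat.of R)) (hm : Models.IsModel R 𝒳 p X f)
    (η : ↥(Models.specialFibre R 𝒳 p)) (hη : ∀ y : ↥(Models.specialFibre R 𝒳 p), y ⤳ η → y = η) :
    ∃ ℓ : ℕ, Module.length ((Models.specialFibre R 𝒳 p).presheaf.stalk η)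
      ((Models.specialFibre R 𝒳 p).presheaf.stalk η) = ℓ ∧ (ℓ : ℤ) ∈ Curv2.indexSubgroup f := by
  obtain ⟨hflat, hlft, -, i, hi⟩ := hm
  haveI := hflat
  haveI := hlft
  haveI : LocallyOfFiniteType f := MorphismProperty.of_isPullback hi hlft
  let r := Spec.map (CommRingCat.ofHom (algebraMap R (ResidueField R)))
  obtain ⟨_, ⟨W, hW, rfl⟩, hzW, -⟩ := 𝒳.isBasis_affineOpens.exists_subset_of_mem_open
    (Set.mem_univ (pullback.fst p r η)) isOpen_univ
  let φ : CommRingCat.of R ⟶ Γ(𝒳, W) := Spec.preimage (hW.fromSpec ≫ p)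
  letI : Algebra R Γ(𝒳, W) := φ.hom.toAlgebra
  have hφ : Spec.map (CommRingCat.ofHom (algebraMap R Γ(𝒳, W))) = hW.fromSpec ≫ p := Spec.map_preimage _
  haveI : Algebra.FiniteType R Γ(𝒳, W) := by
    have h : LocallyOfFiniteType (Spec.map φ) := by
      rw [show Spec.map φ = hW.fromSpec ≫ p from Spec.map_preimage _]; infer_instance
    exact (HasRingHomProperty.Spec_iff (P := @LocallyOfFiniteType)).1 h
  haveI : Module.Flat R Γ(𝒳, W) := by
    have h : Flat (Spec.map φ) := by
      rw [show Spec.map φ = hW.fromSpec ≫ p from Spec.map_preimage _]; infer_instance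
    exact (HasRingHomProperty.Spec_iff (P := @Flat)).1 h
  let A := Γ(𝒳, W)
  obtain ⟨ϖ, hirr⟩ := IsDiscreteValuationRing.exists_irreducible R
  have hϖ := hirr.maximalIdeal_eq
  let k := ResidueField R
  let jj := pullback.map (Spec.map (CommRingCat.ofHom (algebraMap R A))) r p r hW.fromSpec (𝟙 _) (𝟙 _)
    (by rw [hφ, Category.comp_id]) (by simp)
  haveI : IsOpenImmersion jj := inferInstance
  let I : Ideal A := Ideal.span {algebraMap R A ϖ}
  have hI : (maximalIdeal R).map (algebraMap R A) = I := by
    rw [hϖ, Ideal.map_span, Set.image_singleton]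
  let E : TensorProduct R A k ≃+* A ⧸ I :=
    (Algebra.TensorProduct.quotIdealMapEquivTensorQuot A (maximalIdeal R)).symm.toRingEquiv.trans
      (Ideal.quotEquivOfEq hI)
  haveI : IsIso (CommRingCat.ofHom (E : TensorProduct R A k →+* A ⧸ I)) := E.toCommRingCatIso.isIso_hom
  let ch : Spec (CommRingCat.of (A ⧸ I)) ⟶ Models.specialFibre R 𝒳 p :=
    Spec.map (CommRingCat.ofHom (E : TensorProduct R A k →+* A ⧸ I)) ≫ (pullbackSpecIso R A k).inv ≫ jj
  haveI : IsOpenImmersion ch := inferInstance
  have hrange : η ∈ Set.range ch := by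
    have h1 : η ∈ Set.range jj := by
      rw [Scheme.Pullback.range_map]
      exact ⟨(IsAffineOpen.range_fromSpec hW).symm.subset hzW,
        ⟨pullback.snd p r η, rfl⟩⟩
    obtain ⟨z, hz⟩ := h1
    obtain ⟨z', hz'⟩ := (Spec.map (CommRingCat.ofHom (E : TensorProduct R A k →+* A ⧸ I))).surjective
      ((pullbackSpecIso R A k).hom z)
    refine ⟨z', ?_⟩
    simp only [ch, Scheme.Hom.comp_apply, hz', ← hz]
    rw [← Scheme.Hom.comp_apply (pullbackSpecIso R A k).hom, Iso.hom_inv_id]
    rfl
  obtain ⟨P, rfl⟩ := hrange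
  have hmin : ∀ Q : Ideal (A ⧸ I), Q.IsPrime → Q ≤ P.asIdeal → Q = P.asIdeal := by
    intro Q hQ hle
    have hsp : (⟨Q, hQ⟩ : Spec (CommRingCat.of (A ⧸ I))) ⤳ P :=
      (PrimeSpectrum.le_iff_specializes ⟨Q, hQ⟩ P).1 hle
    exact congrArg PrimeSpectrum.asIdeal (ch.isOpenEmbedding.injective (hη _ (hsp.map ch.continuous)))
  obtain ⟨T, _, _, ψ, ℓ, hℓ, hfin, hfree, hrank⟩ := exists_finite_free R hϖ P.asIdeal hmin
  refine ⟨ℓ, ?_, ?_⟩
  · rw [← hℓ]
    let O : CommRingCat := (Spec (CommRingCat.of (A ⧸ I))).presheaf.stalk P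
    letI : Algebra (A ⧸ I) O := StructureSheaf.stalkAlgebra (A ⧸ I) P
    haveI : IsLocalization.AtPrime O P.asIdeal :=
      StructureSheaf.IsLocalization.to_stalk (A ⧸ I) P
    let e₂ : ((Models.specialFibre R 𝒳 p).presheaf.stalk (ch P)) ≃+* Localization.AtPrime P.asIdeal :=
      (asIso (ch.stalkMap P)).commRingCatIsoToRingEquiv.trans
        (IsLocalization.algEquiv P.asIdeal.primeCompl O
          (Localization.AtPrime P.asIdeal)).toRingEquiv
    exact H23.FiniteFibreSum.length_self_of_bijective (e₂ : _ →+* Localization.AtPrime P.asIdeal) e₂.bijective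
  · haveI := hfin
    rw [← hrank]
    refine finrank_mem R f p i hi (Spec.map (CommRingCat.ofHom ψ.toRingHom) ≫ hW.fromSpec) ?_ T
    rw [Category.assoc, ← hφ, ← Spec.map_comp]
    congr 1
    ext c
    exact ψ.commutes c

end Groth.Agent.MultIndex
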