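import Groth.Agent.MultIndex.Slice
import Groth.Agent.Hensel.QuasiFiniteSplit
import Mathlib.RingTheory.LocalRing.Length
import Mathlib.RingTheory.DiscreteValuationRing.Basic
import Mathlib.RingTheory.ZariskisMainTheorem

/-!
# Lifting a slice of the special fibre to a finite flat algebra
-/

universe u

open RingTheory.Sequence IsLocalRing

set_option backward.isDefEq.respectTransparency false
set_option linter.style.haveILetI false

namespace Groth.Agent.MultIndex

variable (R : Type u) [CommRing R] [IsDomain R] [IsDiscreteValuationRing R]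

section Localisation

variable {R} {S : Type u} [CommRing S] [Algebra R S] [Algebra.FiniteType R S]

theorem liesOver_of_maximal_mem {ϖ : R} (hϖ : maximalIdeal R = Ideal.span {ϖ}) (q : Ideal S) [q.IsPrime]
    (hq : algebraMap R S ϖ ∈ q) : q.LiesOver (maximalIdeal R) :=
  ⟨(maximalIdeal.isMaximal R).eq_of_le (Ideal.IsPrime.ne_top inferInstance)
    (by rw [hϖ, Ideal.span_le, Set.singleton_subset_iff]; exact hq)⟩

variable [HenselianLocalRing R] [IsAlgClosed (ResidueField R)]

/-- A one-dimensional local algebra with finite closed fibre is finite free, of rank the length of that fibre. -/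
theorem finite_free_of_length {ϖ : R} (hϖ : maximalIdeal R = Ideal.span {ϖ}) (q : Ideal S) [q.IsMaximal]
    (hq : algebraMap R S ϖ ∈ q) {ℓ : ℕ}
    (hreg : IsSMulRegular (Localization.AtPrime q) (algebraMap R (Localization.AtPrime q) ϖ))
    (hlen : Module.length (Localization.AtPrime q)
      (Localization.AtPrime q ⧸ Ideal.span {algebraMap R (Localization.AtPrime q) ϖ}) = ℓ) :
    Module.Finite R (Localization.AtPrime q) ∧ Module.Free R (Localization.AtPrime q) ∧
      Module.finrank R (Localization.AtPrime q) = ℓ := by
  haveI := liesOver_of_maximal_mem hϖ q hq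
  set T := Localization.AtPrime q
  set J : Ideal T := Ideal.span {algebraMap R T ϖ} with hJ
  have hloc : IsLocalHom (algebraMap R T) := ⟨fun a ha => by
    by_contra hu
    obtain ⟨b, rfl⟩ := Ideal.mem_span_singleton'.1 (hϖ ▸ (show a ∈ maximalIdeal R from hu))
    have : algebraMap R T ϖ ∈ maximalIdeal T := by
      rw [IsScalarTower.algebraMap_apply R S T]
      exact (IsLocalization.AtPrime.to_map_mem_maximal_iff T q _).2 hq
    rw [map_mul] at ha
    exact this (isUnit_of_mul_isUnit_right ha)⟩
  haveI := hloc
  -- residue field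
  have hres : Function.Bijective (algebraMap (ResidueField R) (ResidueField T)) := by
    refine ⟨(algebraMap (ResidueField R) (ResidueField T)).injective, ?_⟩
    haveI : Algebra.IsIntegral (ResidueField R) (ResidueField T) := by
      haveI : Module.Finite (ResidueField R) (ResidueField T) := by
        let J' : Ideal S := Ideal.span {algebraMap R S ϖ}
        letI : Field (S ⧸ q) := Ideal.Quotient.field q
        letI : Algebra (ResidueField R) (S ⧸ q) :=
          (Ideal.Quotient.lift (maximalIdeal R) ((Ideal.Quotient.mk q).comp (algebraMap R S))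
            (fun a ha => Ideal.Quotient.eq_zero_iff_mem.2 (by
              have h := (Ideal.LiesOver.over (p := maximalIdeal R) (P := q)).le ha
              exact h))).toAlgebra
        haveI : IsScalarTower R (ResidueField R) (S ⧸ q) := IsScalarTower.of_algebraMap_eq fun _ => rfl
        haveI : Algebra.FiniteType R (S ⧸ q) :=
          Algebra.FiniteType.of_surjective (Ideal.Quotient.mkₐ R q) Ideal.Quotient.mk_surjective
        haveI : Algebra.FiniteType (ResidueField R) (S ⧸ q) :=
          Algebra.FiniteType.of_restrictScalars_finiteType R _ _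
        haveI : Module.Finite (ResidueField R) (S ⧸ q) := finite_of_finite_type_of_isJacobsonRing _ _
        let φ : (S ⧸ q) →ₐ[ResidueField R] ResidueField T :=
          { Ideal.Quotient.lift q ((residue T).comp (algebraMap S T)) (fun a ha => by
              rw [RingHom.comp_apply, residue_eq_zero_iff]
              exact (IsLocalization.AtPrime.to_map_mem_maximal_iff T q _).2 ha) with
            commutes' := fun c => by
              obtain ⟨a, rfl⟩ := residue_surjective c
              show residue T (algebraMap S T (algebraMap R S a)) = _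
              rw [← IsScalarTower.algebraMap_apply R S T]
              rfl }
        have hφ : Function.Surjective φ := fun z => by
          obtain ⟨z, rfl⟩ := residue_surjective z
          obtain ⟨a, s, rfl⟩ := IsLocalization.exists_mk'_eq q.primeCompl z
          have hs : Ideal.Quotient.mk q (s : S) ≠ 0 := fun h => s.2 (Ideal.Quotient.eq_zero_iff_mem.1 h)
          refine ⟨Ideal.Quotient.mk q a / Ideal.Quotient.mk q (s : S), ?_⟩
          rw [map_div₀, div_eq_iff ((map_ne_zero φ).2 hs)]
          show residue T (algebraMap S T a) = residue T _ * residue T (algebraMap S T (s : S))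
          rw [← map_mul, IsLocalization.mk'_spec]
        exact Module.Finite.of_surjective φ.toLinearMap hφ
      exact Algebra.IsIntegral.of_finite _ _
    exact IsAlgClosed.algebraMap_bijective_of_isIntegral.2
  have hlenR : Module.length R (T ⧸ J) = ℓ := by
    rw [IsLocalRing.length_restrictScalars R T (T ⧸ J), hlen]
    have h1 : Module.length (ResidueField R) (ResidueField T) = 1 := by
      rw [← (LinearEquiv.ofBijective (Algebra.linearMap (ResidueField R) (ResidueField T)) hres).length_eq,
        Module.length_eq_one_iff]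
      infer_instance
    rw [h1, mul_one]
  haveI : Module.Finite R (T ⧸ J) := by
    haveI : IsFiniteLength R (T ⧸ J) := Module.length_ne_top_iff.1 (by rw [hlenR]; simp)
    haveI := (isFiniteLength_iff_isNoetherian_isArtinian.1 this).1
    exact Module.IsNoetherian.finite R (T ⧸ J)
  haveI : Algebra.WeaklyQuasiFiniteAt R q := by
    rw [Algebra.weaklyQuasiFiniteAt_iff]
    have e : (q.under R).map (algebraMap R T) = J := by
      rw [← (Ideal.LiesOver.over (p := maximalIdeal R) (P := q)), hϖ, Ideal.map_span, Set.image_singleton]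
    rw [e]
    infer_instance
  haveI : Algebra.QuasiFiniteAt R q := Algebra.QuasiFiniteAt.of_weaklyQuasiFiniteAt q
  haveI hfin : Module.Finite R T := Hensel.exists_finite_localization_of_quasiFiniteAt R q
  haveI : Module.IsTorsionFree R T := by
    refine ⟨fun a ha => ?_⟩
    have ha0 : a ≠ 0 := ha.ne_zero
    have hirr := (IsDiscreteValuationRing.irreducible_iff_uniformizer ϖ).2 hϖ
    obtain ⟨n, v, rfl⟩ := IsDiscreteValuationRing.eq_unit_mul_pow_irreducible ha0 hirr
    intro x y hxy
    have h1 : algebraMap R T ((v : R) * ϖ ^ n) * x = algebraMap R T ((v : R) * ϖ ^ n) * y := by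
      rw [← Algebra.smul_def, ← Algebra.smul_def]
      exact hxy
    rw [map_mul, map_pow, mul_assoc, mul_assoc] at h1
    exact (hreg.pow n) ((v.isUnit.map (algebraMap R T)).mul_left_cancel h1)
  haveI hfree : Module.Free R T := Module.free_of_finite_type_torsion_free'
  refine ⟨hfin, hfree, ?_⟩
  let b := Module.Free.chooseBasis R T
  let ψ : (T ⧸ J) ≃ₗ[R] (Module.Free.ChooseBasisIndex R T → R ⧸ maximalIdeal R) :=
    ((Submodule.quotEquivOfEq J ((maximalIdeal R).map (algebraMap R T))
      (by rw [hJ, hϖ, Ideal.map_span, Set.image_singleton])).restrictScalars R).trans <|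
    (Submodule.Quotient.restrictScalarsEquiv R ((maximalIdeal R).map (algebraMap R T))).symm.trans <|
    ((Submodule.quotEquivOfEq _ _ (Ideal.smul_top_eq_map (maximalIdeal R)).symm).trans
      ((Submodule.Quotient.equiv _ _ b.equivFun (by rw [Submodule.map_smul'', Submodule.map_top, LinearEquiv.range])).trans
        ((TensorProduct.quotTensorEquivQuotSMul _ (maximalIdeal R)).symm.trans
          (TensorProduct.piScalarRight R R (R ⧸ maximalIdeal R) _))))
  rw [ψ.length_eq, Module.length_pi_of_fintype, Finset.sum_const, Finset.card_univ,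
    ← Module.finrank_eq_card_chooseBasisIndex] at hlenR
  have h1 : Module.length R (R ⧸ maximalIdeal R) = 1 := Module.length_eq_one_iff.2 (isSimpleModule_iff_quot_maximal.2
    ⟨_, maximalIdeal.isMaximal R, ⟨LinearEquiv.refl _ _⟩⟩)
  rw [h1, nsmul_one] at hlenR
  exact_mod_cast hlenR

end Localisation

variable [HenselianLocalRing R] [IsAlgClosed (ResidueField R)]

/-- Through a component of the special fibre of multiplicity `ℓ` there is a finite flat algebra of rank `ℓ`. -/
theorem exists_finite_free {A : Type u} [CommRing A] [Algebra R A] [Algebra.FiniteType R A] [Module.Flat R A]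
    {ϖ : R} (hϖ : maximalIdeal R = Ideal.span {ϖ}) (P : Ideal (A ⧸ Ideal.span {algebraMap R A ϖ})) [P.IsPrime]
    (hmin : ∀ Q : Ideal (A ⧸ Ideal.span {algebraMap R A ϖ}), Q.IsPrime → Q ≤ P → Q = P) :
    ∃ (T : Type u) (_ : CommRing T) (_ : Algebra R T) (_ : A →ₐ[R] T) (ℓ : ℕ),
      Module.length (Localization.AtPrime P) (Localization.AtPrime P) = ℓ ∧
        Module.Finite R T ∧ Module.Free R T ∧ Module.finrank R T = ℓ := by
  let I : Ideal A := Ideal.span {algebraMap R A ϖ}
  let B := A ⧸ I
  haveI : IsNoetherianRing A := Algebra.FiniteType.isNoetherianRing R A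
  letI : Algebra (ResidueField R) B :=
    (Ideal.Quotient.lift (maximalIdeal R) ((Ideal.Quotient.mk I).comp (algebraMap R A)) (fun a ha => by
      obtain ⟨c, rfl⟩ := Ideal.mem_span_singleton'.1 (hϖ ▸ ha)
      refine Ideal.Quotient.eq_zero_iff_mem.2 ?_
      rw [map_mul]
      exact Ideal.mul_mem_left _ _ (Ideal.mem_span_singleton_self _))).toAlgebra
  haveI : IsScalarTower R (ResidueField R) B := IsScalarTower.of_algebraMap_eq fun _ => rfl
  haveI : Algebra.FiniteType R B :=
    Algebra.FiniteType.of_surjective (Ideal.Quotient.mkₐ R I) Ideal.Quotient.mk_surjective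
  haveI : Algebra.FiniteType (ResidueField R) B := Algebra.FiniteType.of_restrictScalars_finiteType R _ _
  obtain ⟨y, hy, rs, -, hrs, hwr, hlen, htop⟩ := exists_regular_slice (ResidueField R) P hmin
  obtain ⟨ℓ, hℓ⟩ := ENat.ne_top_iff_exists.1 htop
  let Y : Ideal A := y.comap (Ideal.Quotient.mk I)
  haveI : Y.IsMaximal := Ideal.comap_isMaximal_of_surjective _ Ideal.Quotient.mk_surjective
  let O := Localization.AtPrime Y
  let C := O ⧸ I.map (algebraMap A O)
  haveI : IsLocalization.AtPrime C y := by
    have h1 : IsLocalization (Algebra.algebraMapSubmonoid B Y.primeCompl) C := inferInstance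
    have h2 : Algebra.algebraMapSubmonoid B Y.primeCompl = y.primeCompl := by
      ext x
      refine ⟨?_, fun hx => ?_⟩
      · rintro ⟨a, ha, rfl⟩
        exact ha
      · obtain ⟨a, rfl⟩ := Ideal.Quotient.mk_surjective x
        exact ⟨a, hx, rfl⟩
    show IsLocalization y.primeCompl C
    exact h2 ▸ h1
  let e : C ≃+* Localization.AtPrime y :=
    (IsLocalization.algEquiv y.primeCompl C (Localization.AtPrime y)).toRingEquiv
  letI : Algebra O (Localization.AtPrime y) := ((e : C →+* _).comp (Ideal.Quotient.mk _)).toAlgebra
  have hsurj : Function.Surjective (algebraMap O (Localization.AtPrime y)) :=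
    e.surjective.comp Ideal.Quotient.mk_surjective
  have hker : ∀ z : O, algebraMap O (Localization.AtPrime y) z = 0 ↔ z ∈ I.map (algebraMap A O) := fun z =>
    (e.map_eq_zero_iff).trans Ideal.Quotient.eq_zero_iff_mem
  choose σ hσ using hsurj
  let gs : List O := rs.map σ
  have hmap : gs.map (algebraMap O (Localization.AtPrime y)) = rs := by
    rw [List.map_map]
    exact (List.map_congr_left fun c _ => hσ c).trans (List.map_id _)
  let w : O := algebraMap R O ϖ
  have hIw : I.map (algebraMap A O) = Ideal.span {w} := by
    rw [Ideal.map_span, Set.image_singleton, ← IsScalarTower.algebraMap_apply]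
  have hw : IsSMulRegular O w := by
    haveI : Module.Flat R O := Module.Flat.trans R A O
    intro a b hab
    have hirr := (IsDiscreteValuationRing.irreducible_iff_uniformizer ϖ).2 hϖ
    have hab' : ϖ • a = ϖ • b := by
      rw [Algebra.smul_def, Algebra.smul_def]
      exact hab
    exact smul_right_injective O hirr.ne_zero hab'
  -- the quotient by the uniformiser
  let ε : QuotSMulTop w O ≃ₗ[O] Localization.AtPrime y :=
    (Submodule.quotEquivOfEq _ _ (by
      ext z
      rw [LinearMap.mem_ker, Algebra.linearMap_apply, hker, hIw, Ideal.mem_span_singleton',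
        Submodule.mem_smul_pointwise_iff_exists]
      exact ⟨fun ⟨c, _, hc⟩ => ⟨c, by rw [← hc, smul_eq_mul, mul_comm]⟩,
        fun ⟨c, hc⟩ => ⟨c, trivial, by rw [← hc, smul_eq_mul, mul_comm]⟩⟩)).trans
      ((Algebra.linearMap O (Localization.AtPrime y)).quotKerEquivOfSurjective fun z => ⟨σ z, hσ z⟩)
  have hwr' : IsWeaklyRegular O (w :: gs) := by
    rw [isWeaklyRegular_cons_iff]
    refine ⟨hw, (ε.isWeaklyRegular_congr gs).2 ?_⟩
    rw [← isWeaklyRegular_map_algebraMap_iff (Localization.AtPrime y), hmap]
    exact hwr
  have hgs : ∀ g ∈ gs, g ∈ maximalIdeal O := fun g hg => by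
    have h1 : algebraMap O (Localization.AtPrime y) g ∈ maximalIdeal _ :=
      hrs _ (hmap ▸ List.mem_map_of_mem (f := algebraMap O (Localization.AtPrime y)) hg)
    exact fun h => h1 (h.map _)
  have hwm : w ∈ maximalIdeal O := by
    show algebraMap R O ϖ ∈ _
    rw [IsScalarTower.algebraMap_apply R A O]
    exact (IsLocalization.AtPrime.to_map_mem_maximal_iff O Y _).2 (show Ideal.Quotient.mk I _ ∈ y by
      rw [Ideal.Quotient.eq_zero_iff_mem.2 (Ideal.mem_span_singleton_self _)]; exact zero_mem _)
  have hwT : IsSMulRegular (O ⧸ (Ideal.ofList gs • ⊤ : Submodule O O)) w := by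
    have h := IsLocalRing.isWeaklyRegular_of_perm_of_subset_maximalIdeal hwr'
      (List.perm_append_singleton w gs).symm (fun r hr => by
        rcases List.mem_cons.1 hr with rfl | hr
        · exact hwm
        · exact hgs r hr)
    rw [isWeaklyRegular_append_iff, isWeaklyRegular_cons_iff] at h
    exact h.2.1
  -- numerators
  choose a s hs using fun z : O => IsLocalization.exists_mk'_eq Y.primeCompl z
  let J : Ideal A := Ideal.ofList (gs.map a)
  have hJO : J.map (algebraMap A O) = Ideal.ofList gs := by
    rw [Ideal.map_ofList, List.map_map]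
    refine le_antisymm (Ideal.span_le.2 ?_) (Ideal.span_le.2 ?_)
    · rintro z hz
      obtain ⟨g, hg, rfl⟩ := List.mem_map.1 (show z ∈ gs.map _ from hz)
      show algebraMap A O (a g) ∈ Ideal.ofList gs
      rw [← IsLocalization.mk'_spec O (a g) (s g), hs]
      exact Ideal.mul_mem_right _ _ (Ideal.subset_span hg)
    · intro g hg
      have hu : IsUnit (algebraMap A O (s g : A)) := IsLocalization.map_units O (s g)
      refine (Ideal.unit_mul_mem_iff_mem _ hu).1 ?_
      rw [mul_comm]
      conv => arg 2; arg 1; rw [← hs g]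
      rw [IsLocalization.mk'_spec]
      exact Ideal.subset_span (List.mem_map_of_mem (f := algebraMap A O ∘ a) (show g ∈ gs from hg))
  have hJY : J ≤ Y := by
    refine Ideal.span_le.2 fun z hz => ?_
    obtain ⟨g, hg, rfl⟩ := List.mem_map.1 (show z ∈ gs.map a from hz)
    show a g ∈ Y
    rw [← IsLocalization.AtPrime.to_map_mem_maximal_iff O Y, ← IsLocalization.mk'_spec O (a g) (s g), hs]
    exact Ideal.mul_mem_right _ _ (hgs g hg)
  let S := A ⧸ J
  let q : Ideal S := Y.map (Ideal.Quotient.mk J)
  have hqY : q.comap (Ideal.Quotient.mk J) = Y := by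
    rw [Ideal.comap_map_of_surjective _ Ideal.Quotient.mk_surjective, ← RingHom.ker_eq_comap_bot, Ideal.mk_ker,
      sup_eq_left.mpr hJY]
  haveI : q.IsMaximal := (Ideal.map_eq_top_or_isMaximal_of_surjective _ Ideal.Quotient.mk_surjective ‹_›).resolve_left
    fun h => (Ideal.IsPrime.ne_top (I := Y) inferInstance) (by rw [← hqY, show q = ⊤ from h, Ideal.comap_top])
  haveI : Algebra.FiniteType R S :=
    Algebra.FiniteType.of_surjective (Ideal.Quotient.mkₐ R J) Ideal.Quotient.mk_surjective
  let C' := O ⧸ J.map (algebraMap A O)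
  haveI : IsLocalization.AtPrime C' q := by
    have h1 : IsLocalization (Algebra.algebraMapSubmonoid S Y.primeCompl) C' := inferInstance
    have h2 : Algebra.algebraMapSubmonoid S Y.primeCompl = q.primeCompl := by
      ext x
      refine ⟨?_, fun hx => ?_⟩
      · rintro ⟨c, hc, rfl⟩
        exact fun h => hc (hqY.le (show Ideal.Quotient.mk J c ∈ q from h))
      · obtain ⟨c, rfl⟩ := Ideal.Quotient.mk_surjective x
        exact ⟨c, fun h => hx (Ideal.mem_map_of_mem _ h), rfl⟩
    show IsLocalization q.primeCompl C'
    exact h2 ▸ h1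
  let e' : C' ≃+* Localization.AtPrime q :=
    (IsLocalization.algEquiv q.primeCompl C' (Localization.AtPrime q)).toRingEquiv
  letI : Algebra O (Localization.AtPrime q) := ((e' : C' →+* _).comp (Ideal.Quotient.mk _)).toAlgebra
  have hsurj' : Function.Surjective (algebraMap O (Localization.AtPrime q)) :=
    e'.surjective.comp Ideal.Quotient.mk_surjective
  have hwimg : algebraMap O (Localization.AtPrime q) w = algebraMap R (Localization.AtPrime q) ϖ := by
    show e' (Ideal.Quotient.mk _ w) = _
    rw [show Ideal.Quotient.mk (J.map (algebraMap A O)) w = algebraMap S C' (algebraMap R S ϖ) by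
      show Ideal.Quotient.mk (J.map (algebraMap A O)) (algebraMap R O ϖ) = _
      rw [IsScalarTower.algebraMap_apply R A O]
      rfl]
    rw [IsScalarTower.algebraMap_apply R S (Localization.AtPrime q)]
    exact (IsLocalization.algEquiv q.primeCompl C' (Localization.AtPrime q)).commutes _
  let ε' : (O ⧸ (Ideal.ofList gs • ⊤ : Submodule O O)) ≃ₗ[O] Localization.AtPrime q :=
    (Submodule.quotEquivOfEq _ _ (by
      ext z
      rw [LinearMap.mem_ker, Algebra.linearMap_apply, smul_eq_mul, Ideal.mul_top, ← hJO]
      exact ((e'.map_eq_zero_iff).trans Ideal.Quotient.eq_zero_iff_mem).symm)).trans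
      ((Algebra.linearMap O (Localization.AtPrime q)).quotKerEquivOfSurjective hsurj')
  have hreg : IsSMulRegular (Localization.AtPrime q) (algebraMap R (Localization.AtPrime q) ϖ) := by
    intro c d hcd
    refine (ε'.isSMulRegular_congr w).1 hwT ?_
    show w • c = w • d
    rw [Algebra.smul_def, Algebra.smul_def, hwimg]
    exact hcd
  have hlenT : Module.length (Localization.AtPrime q)
      (Localization.AtPrime q ⧸ Ideal.span {algebraMap R (Localization.AtPrime q) ϖ}) = ℓ := by
    rw [← Module.length_eq_of_surjective (S := O) (R := Localization.AtPrime q) hsurj', hℓ, ← hlen,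
      ← Module.length_eq_of_surjective (S := O) (R := Localization.AtPrime y) (fun z => ⟨σ z, hσ z⟩)]
    refine LinearEquiv.length_eq ?_
    let φ₁ : O →ₗ[O] Localization.AtPrime q ⧸ Ideal.span {algebraMap R (Localization.AtPrime q) ϖ} :=
      ((Submodule.mkQ _).restrictScalars O).comp (Algebra.linearMap O (Localization.AtPrime q))
    let φ₂ : O →ₗ[O] Localization.AtPrime y ⧸ Ideal.ofList rs :=
      ((Submodule.mkQ _).restrictScalars O).comp (Algebra.linearMap O (Localization.AtPrime y))
    have h₁ : Function.Surjective φ₁ := (Submodule.mkQ_surjective _).comp hsurj'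
    have h₂ : Function.Surjective φ₂ := (Submodule.mkQ_surjective _).comp (fun z => ⟨σ z, hσ z⟩)
    have k₁ : LinearMap.ker φ₁ = Ideal.ofList gs ⊔ Ideal.span {w} := by
      have : LinearMap.ker φ₁ = ((Ideal.span {w}).map (algebraMap O (Localization.AtPrime q))).comap
          (algebraMap O (Localization.AtPrime q)) := by
        ext z
        show (Submodule.mkQ _ (algebraMap O (Localization.AtPrime q) z)) = 0 ↔ _
        rw [Submodule.mkQ_apply, Submodule.Quotient.mk_eq_zero, Ideal.mem_comap, Ideal.map_span, Set.image_singleton,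
          hwimg]
      rw [this, Ideal.comap_map_of_surjective _ hsurj', sup_comm]
      congr 1
      ext z
      show e' (Ideal.Quotient.mk _ z) = 0 ↔ _
      rw [e'.map_eq_zero_iff, Ideal.Quotient.eq_zero_iff_mem, hJO]
    have k₂ : LinearMap.ker φ₂ = Ideal.ofList gs ⊔ Ideal.span {w} := by
      have : LinearMap.ker φ₂ = ((Ideal.ofList gs).map (algebraMap O (Localization.AtPrime y))).comap
          (algebraMap O (Localization.AtPrime y)) := by
        ext z
        show (Submodule.mkQ _ (algebraMap O (Localization.AtPrime y) z)) = 0 ↔ _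
        rw [Submodule.mkQ_apply, Submodule.Quotient.mk_eq_zero, Ideal.mem_comap, Ideal.map_ofList, hmap]
      rw [this, Ideal.comap_map_of_surjective _ (fun z => ⟨σ z, hσ z⟩)]
      congr 1
      ext z
      show algebraMap O (Localization.AtPrime y) z = 0 ↔ _
      rw [hker, hIw]
    exact (φ₁.quotKerEquivOfSurjective h₁).symm.trans
      ((Submodule.quotEquivOfEq _ _ (k₁.trans k₂.symm)).trans (φ₂.quotKerEquivOfSurjective h₂))
  have hq : algebraMap R S ϖ ∈ q := Ideal.mem_map_of_mem (Ideal.Quotient.mk J)
    (show algebraMap R A ϖ ∈ Y from show Ideal.Quotient.mk I _ ∈ y by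
      rw [Ideal.Quotient.eq_zero_iff_mem.2 (Ideal.mem_span_singleton_self _)]; exact zero_mem _)
  obtain ⟨h1, h2, h3⟩ := finite_free_of_length hϖ q hq hreg hlenT
  exact ⟨Localization.AtPrime q, inferInstance, inferInstance,
    (IsScalarTower.toAlgHom R S (Localization.AtPrime q)).comp (Ideal.Quotient.mkₐ R J), ℓ, hℓ.symm, h1, h2, h3⟩

end Groth.Agent.MultIndex
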