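import Groth.Agent.EGA41Lib.RegSeqPow
import Mathlib.RingTheory.Length
import Mathlib.RingTheory.Regular.RegularSequence

/-! # Regular sequences with the length of the quotient -/

universe u

open RingTheory.Sequence Pointwise Function

namespace Groth.Agent.MultIndex

variable {R : Type u} [CommRing R]

/-- The list is weakly regular on the module, with quotient of length `n`. -/
def RegLen (rs : List R) (M : Type u) [AddCommGroup M] [Module R M] (n : ℕ∞) : Prop :=
  IsWeaklyRegular M rs ∧ Module.length R (M ⧸ (Ideal.ofList rs • ⊤ : Submodule R M)) = n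

theorem regLen_cons {r : R} {rs : List R} {M : Type u} [AddCommGroup M] [Module R M] {n : ℕ∞} :
    RegLen (r :: rs) M n ↔ IsSMulRegular M r ∧ RegLen rs (QuotSMulTop r M) n := by
  rw [RegLen, RegLen, isWeaklyRegular_cons_iff,
    (Submodule.quotOfListConsSMulTopEquivQuotSMulTopInner M r rs).length_eq, and_assoc]

theorem regLen_nil {M : Type u} [AddCommGroup M] [Module R M] {n : ℕ∞} :
    RegLen ([] : List R) M n ↔ Module.length R M = n := by
  rw [RegLen, (Submodule.quotEquivOfEqBot (Ideal.ofList ([] : List R) • ⊤ : Submodule R M)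
    (by rw [Ideal.ofList_nil, Submodule.bot_smul])).length_eq]
  exact and_iff_right (IsWeaklyRegular.nil R M)

theorem regLen_congr {rs : List R} {M N : Type u} [AddCommGroup M] [Module R M] [AddCommGroup N] [Module R N]
    (e : M ≃ₗ[R] N) {n : ℕ∞} (h : RegLen rs M n) : RegLen rs N n :=
  ⟨(e.isWeaklyRegular_congr rs).1 h.1, by
    rw [← h.2]
    exact ((Submodule.Quotient.equiv _ _ e (by rw [Submodule.map_smul'', Submodule.map_top, LinearEquiv.range])).length_eq).symm⟩

theorem regLen_zero (rs : List R) (M : Type u) [AddCommGroup M] [Module R M] [Subsingleton M] : RegLen rs M 0 := by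
  induction rs generalizing M with
  | nil => exact regLen_nil.2 Module.length_eq_zero
  | cons r rs ih => exact regLen_cons.2 ⟨fun _ _ _ => Subsingleton.elim _ _, ih _⟩

theorem regLen_exact : ∀ (rs : List R) {A B C : Type u} [AddCommGroup A] [Module R A]
    [AddCommGroup B] [Module R B] [AddCommGroup C] [Module R C] {f : A →ₗ[R] B} {g : B →ₗ[R] C} {a c : ℕ∞},
    Injective f → Exact f g → Surjective g → RegLen rs A a → RegLen rs C c → RegLen rs B (a + c)
  | [], A, B, C, _, _, _, _, _, _, f, g, a, c, hf, hfg, hg, hA, hC => by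
    rw [regLen_nil] at hA hC ⊢
    rw [Module.length_eq_add_of_exact f g hf hg hfg, hA, hC]
  | r :: rs, A, B, C, _, _, _, _, _, _, f, g, a, c, hf, hfg, hg, hA, hC => by
    rw [regLen_cons] at hA hC ⊢
    have hB : IsSMulRegular B r := by
      refine isSMulRegular_iff_right_eq_zero_of_smul.mpr fun b hb => ?_
      have hgb : g b = 0 := hC.1.right_eq_zero_of_smul (by rw [← map_smul, hb, map_zero])
      obtain ⟨a', rfl⟩ := (hfg b).mp hgb
      rw [← map_smul, ← map_zero f] at hb
      rw [hA.1.right_eq_zero_of_smul (hf hb), map_zero]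
    refine ⟨hB, regLen_exact rs (f := QuotSMulTop.map r f) (g := QuotSMulTop.map r g) ?_
      (QuotSMulTop.map_exact r hfg hg) (QuotSMulTop.map_surjective r hg) hA.2 hC.2⟩
    rw [injective_iff_map_eq_zero]
    intro z hz
    obtain ⟨x, rfl⟩ := Submodule.Quotient.mk_surjective _ z
    have hz' : f x ∈ r • (⊤ : Submodule R B) := (Submodule.Quotient.mk_eq_zero _).mp hz
    obtain ⟨b, -, hb⟩ := (Submodule.mem_smul_pointwise_iff_exists _ _ _).mp hz'
    have hgb : g b = 0 := hC.1.right_eq_zero_of_smul (by rw [← map_smul, hb, hfg.apply_apply_eq_zero])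
    obtain ⟨x', rfl⟩ := (hfg b).mp hgb
    rw [Submodule.Quotient.mk_eq_zero, ← hf ((map_smul f r x').trans hb)]
    exact Submodule.smul_mem_pointwise_smul x' r ⊤ trivial

end Groth.Agent.MultIndex
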