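import Groth.Agent.MultIndex.RegLen
import Groth.Agent.CycLib.SamuelAssoc
import Groth.Agent.CycLib.Dim1Mod
import Groth.Agent.CAlgGlobalDim.RegSeq
import Groth.Agent.CotTLib.SmoothField
import Groth.Agent.FlatMisc.SpreadSmooth
import Groth.Agent.GrpSchLib.Reduced

/-!
# Multiplicity of a component from a regular sequence at a general closed point
-/

universe u

open RingTheory.Sequence IsLocalRing

set_option backward.isDefEq.respectTransparency false
set_option linter.unusedSectionVars false

namespace Groth.Agent.MultIndex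

variable {A : Type u} [CommRing A]

/-- The localised quotient as a quotient of the localised ring. -/
theorem nonempty_quot_equiv (y P : Ideal A) [y.IsPrime] :
    Nonempty ((Localization.AtPrime y ⧸ P.map (algebraMap A (Localization.AtPrime y))) ≃ₗ[Localization.AtPrime y]
      LocalizedModule y.primeCompl (A ⧸ P)) := by
  let φ := LinearMap.toSpanSingleton (Localization.AtPrime y) _
    (LocalizedModule.mk (1 : A ⧸ P) (1 : y.primeCompl))
  have hmk : ∀ (a : A) (s : y.primeCompl), φ (Localization.mk a s) = LocalizedModule.mk (Ideal.Quotient.mk P a) s := by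
    intro a s
    refine (LocalizedModule.mk_smul_mk a (1 : A ⧸ P) s 1).trans ?_
    rw [mul_one, Algebra.smul_def, mul_one, Ideal.Quotient.algebraMap_eq]
  have hφ : Function.Surjective φ := fun z => by
    induction z using LocalizedModule.induction_on with
    | _ m s =>
      obtain ⟨a, rfl⟩ := Ideal.Quotient.mk_surjective m
      exact ⟨Localization.mk a s, hmk a s⟩
  have hker : LinearMap.ker φ = P.map (algebraMap A (Localization.AtPrime y)) := by
    ext z
    obtain ⟨⟨a, s⟩, rfl⟩ : ∃ as : A × y.primeCompl, Localization.mk as.1 as.2 = z := by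
      induction z using Localization.induction_on with
      | _ as => exact ⟨as, rfl⟩
    rw [LinearMap.mem_ker, hmk, ← LocalizedModule.zero_mk s, LocalizedModule.mk_eq,
      Localization.mk_eq_mk', IsLocalization.mk'_mem_iff, IsLocalization.algebraMap_mem_map_algebraMap_iff y.primeCompl]
    refine ⟨fun ⟨c, hc⟩ => ⟨c * s, (c * s).2, ?_⟩, fun ⟨c, hc, hcP⟩ => ⟨⟨c, hc⟩, ?_⟩⟩
    · simpa [Submonoid.smul_def, Algebra.smul_def, ← map_mul, Ideal.Quotient.eq_zero_iff_mem, mul_assoc] using hc
    · simp only [Submonoid.smul_def, Algebra.smul_def, Ideal.Quotient.algebraMap_eq, ← map_mul, smul_zero, map_zero,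
        mul_zero]
      rw [Ideal.Quotient.eq_zero_iff_mem]
      have : c * (s * a) = s * (c * a) := by ring
      rw [this]
      exact P.mul_mem_left _ hcP
  exact ⟨(Submodule.quotEquivOfEq _ _ hker).symm.trans (φ.quotKerEquivOfSurjective hφ)⟩

theorem localized_subsingleton_of_smul {M : Type u} [AddCommGroup M] [Module A M] (y : Ideal A) [y.IsPrime]
    {f : A} (hf : f ∉ y) (h : ∀ m : M, f • m = 0) : Subsingleton (LocalizedModule y.primeCompl M) := by
  refine ⟨fun z w => ?_⟩
  induction z using LocalizedModule.induction_on with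
  | _ m s =>
    induction w using LocalizedModule.induction_on with
    | _ m' s' =>
      rw [LocalizedModule.mk_eq]
      exact ⟨⟨f, hf⟩, by simp [Submonoid.smul_def, h]⟩

section Map

variable (y : Ideal A) [y.IsPrime] {N₁ N₂ : Type u} [AddCommGroup N₁] [Module A N₁] [AddCommGroup N₂] [Module A N₂]

theorem map_inj (f : N₁ →ₗ[A] N₂) (hf : Function.Injective f) :
    Function.Injective (LocalizedModule.map y.primeCompl f) :=
  IsLocalizedModule.map_injective y.primeCompl (LocalizedModule.mkLinearMap _ _)
    (LocalizedModule.mkLinearMap _ _) f hf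

theorem map_surj (f : N₁ →ₗ[A] N₂) (hf : Function.Surjective f) :
    Function.Surjective (LocalizedModule.map y.primeCompl f) :=
  IsLocalizedModule.map_surjective y.primeCompl (LocalizedModule.mkLinearMap _ _)
    (LocalizedModule.mkLinearMap _ _) f hf

/-- Localisation of a linear equivalence. -/
noncomputable def locEquiv (e : N₁ ≃ₗ[A] N₂) :
    LocalizedModule y.primeCompl N₁ ≃ₗ[Localization.AtPrime y] LocalizedModule y.primeCompl N₂ :=
  LinearEquiv.ofBijective (LocalizedModule.map y.primeCompl e.toLinearMap)
    ⟨map_inj y e.toLinearMap e.injective, map_surj y e.toLinearMap e.surjective⟩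

theorem length_localized_add {N₃ : Type u} [AddCommGroup N₃] [Module A N₃] (f : N₁ →ₗ[A] N₂) (g : N₂ →ₗ[A] N₃)
    (hf : Function.Injective f) (hg : Function.Surjective g) (hfg : Function.Exact f g) :
    Module.length (Localization.AtPrime y) (LocalizedModule y.primeCompl N₂) =
      Module.length (Localization.AtPrime y) (LocalizedModule y.primeCompl N₁) +
      Module.length (Localization.AtPrime y) (LocalizedModule y.primeCompl N₃) :=
  Module.length_eq_add_of_exact (LocalizedModule.map y.primeCompl f) (LocalizedModule.map y.primeCompl g)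
    (map_inj y f hf) (map_surj y g hg) (LocalizedModule.map_exact y.primeCompl f g hfg)

end Map

theorem exists_notMem_forall_regLen [IsNoetherianRing A] (P : Ideal A) [P.IsPrime]
    (hmin : ∀ Q : Ideal A, Q.IsPrime → Q ≤ P → Q = P) (M : Type u) [AddCommGroup M] [Module A M] [Module.Finite A M] :
    ∃ f ∉ P, ∀ (y : Ideal A) [y.IsPrime], f ∉ y → ∀ rs : List (Localization.AtPrime y),
      RegLen rs (Localization.AtPrime y ⧸ P.map (algebraMap A (Localization.AtPrime y))) 1 →
      RegLen rs (LocalizedModule y.primeCompl M)
        (Module.length (Localization.AtPrime P) (LocalizedModule P.primeCompl M)) := by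
  induction ‹Module.Finite A M› using IsNoetherianRing.induction_on_isQuotientEquivQuotientPrime with
  | subsingleton N =>
    refine ⟨1, P.ne_top_iff_one.1 (Ideal.IsPrime.ne_top ‹_›), fun y _ _ rs _ => ?_⟩
    haveI := localized_subsingleton_of_smul (M := N) P (P.ne_top_iff_one.1 (Ideal.IsPrime.ne_top ‹_›))
      fun m => Subsingleton.elim _ _
    haveI := localized_subsingleton_of_smul (M := N) y (y.ne_top_iff_one.1 (Ideal.IsPrime.ne_top ‹_›))
      fun m => Subsingleton.elim _ _
    rw [Module.length_eq_zero]
    exact regLen_zero rs _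
  | quotient N p e =>
    by_cases hp : p.1 = P
    · refine ⟨1, P.ne_top_iff_one.1 (Ideal.IsPrime.ne_top ‹_›), fun y _ _ rs hrs => ?_⟩
      have h1 : Module.length (Localization.AtPrime P) (LocalizedModule P.primeCompl N) = 1 := by
        rw [(locEquiv P (e.trans (Submodule.quotEquivOfEq _ _ hp))).length_eq]
        obtain ⟨e'⟩ := nonempty_quot_equiv P P
        rw [← e'.length_eq, Module.length_eq_one_iff]
        exact isSimpleModule_iff_quot_maximal.2 ⟨_, by
          rw [Localization.AtPrime.map_eq_maximalIdeal]; infer_instance, ⟨LinearEquiv.refl _ _⟩⟩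
      rw [h1]
      refine regLen_congr ?_ hrs
      exact (nonempty_quot_equiv y P).some.trans
        (locEquiv y ((Submodule.quotEquivOfEq _ _ hp.symm).trans e.symm))
    · obtain ⟨f, hfp, hfP⟩ : ∃ f ∈ p.1, f ∉ P := SetLike.not_le_iff_exists.1 fun h => hp (hmin p.1 p.2 h)
      have hann : ∀ m : N, f • m = 0 := fun m => e.injective (by
        rw [map_smul, map_zero]
        obtain ⟨a, ha⟩ := Ideal.Quotient.mk_surjective (e m)
        rw [← ha, Algebra.smul_def, Ideal.Quotient.algebraMap_eq, ← map_mul, Ideal.Quotient.eq_zero_iff_mem]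
        exact p.1.mul_mem_right a hfp)
      refine ⟨f, hfP, fun y _ hfy rs _ => ?_⟩
      haveI := localized_subsingleton_of_smul (M := N) P hfP hann
      haveI := localized_subsingleton_of_smul (M := N) y hfy hann
      rw [Module.length_eq_zero]
      exact regLen_zero rs _
  | exact N₁ N₂ N₃ f g hf hg hfg h₁ h₃ =>
    obtain ⟨a, ha, ha'⟩ := h₁
    obtain ⟨b, hb, hb'⟩ := h₃
    refine ⟨a * b, fun h => ((‹P.IsPrime›.mem_or_mem h).elim ha hb), fun y _ hy rs hrs => ?_⟩
    rw [length_localized_add P f g hf hg hfg]
    exact regLen_exact rs (f := LocalizedModule.map y.primeCompl f)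
      (g := LocalizedModule.map y.primeCompl g) (map_inj y f hf) (LocalizedModule.map_exact y.primeCompl f g hfg) (map_surj y g hg)
      (ha' y (fun h => hy (y.mul_mem_right b h)) rs hrs) (hb' y (fun h => hy (y.mul_mem_left a h)) rs hrs)

/-- At some closed point of a component a regular sequence cuts out the multiplicity of the component. -/
theorem exists_regular_slice (k : Type u) [Field k] [IsAlgClosed k] [Algebra k A] [Algebra.FiniteType k A]
    (P : Ideal A) [P.IsPrime] (hmin : ∀ Q : Ideal A, Q.IsPrime → Q ≤ P → Q = P) :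
    ∃ (y : Ideal A) (_ : y.IsMaximal) (rs : List (Localization.AtPrime y)), P ≤ y ∧
      (∀ r ∈ rs, r ∈ maximalIdeal (Localization.AtPrime y)) ∧ IsWeaklyRegular (Localization.AtPrime y) rs ∧
      Module.length (Localization.AtPrime y) (Localization.AtPrime y ⧸ Ideal.ofList rs) =
        Module.length (Localization.AtPrime P) (Localization.AtPrime P) ∧
      Module.length (Localization.AtPrime P) (Localization.AtPrime P) ≠ ⊤ := by
  haveI : IsNoetherianRing A := Algebra.FiniteType.isNoetherianRing k A
  haveI : IsJacobsonRing A := isJacobsonRing_of_finiteType (A := k)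
  obtain ⟨f, hfP, hf⟩ := exists_notMem_forall_regLen P hmin A
  let B := A ⧸ P
  haveI : Algebra.IsGeometricallyReduced k B := GrpSchLib.isGeometricallyReduced_of_isReduced k B
  obtain ⟨g, hg, hgs⟩ := FlatMisc.SpreadRed.exists_smooth_nzd k B
  have hfg : Ideal.Quotient.mk P f * g ≠ 0 :=
    mul_ne_zero (fun h => hfP (Ideal.Quotient.eq_zero_iff_mem.1 h)) (nonZeroDivisors.ne_zero hg)
  haveI : IsJacobsonRing B := isJacobsonRing_of_finiteType (A := k)
  obtain ⟨m, hm, hfm⟩ : ∃ m : Ideal B, m.IsMaximal ∧ Ideal.Quotient.mk P f * g ∉ m := by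
    by_contra hn
    push Not at hn
    refine hfg ?_
    have : Ideal.Quotient.mk P f * g ∈ (⊥ : Ideal B).jacobson := by
      rw [Ideal.jacobson, Ideal.mem_sInf]
      exact fun J hJ => hn J hJ.2
    rwa [isJacobsonRing_iff.1 ‹IsJacobsonRing B› ⊥ Ideal.isPrime_bot.isRadical, Ideal.mem_bot] at this
  have hgm : g ∉ m := fun h => hfm (m.mul_mem_left _ h)
  haveI : Algebra.IsSmoothAt k m := by
    haveI : Algebra.FinitePresentation k B := Algebra.FinitePresentation.of_finiteType.mp inferInstance
    exact (Algebra.basicOpen_subset_smoothLocus_iff_smooth.2 hgs)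
      (show (⟨m, hm.isPrime⟩ : PrimeSpectrum B) ∈ PrimeSpectrum.basicOpen g from hgm)
  haveI hreg : IsRegularLocalRing (Localization.AtPrime m) := CotTLib.isRegularLocalRing_of_isSmoothAt (k := k) m
  let y : Ideal A := m.comap (Ideal.Quotient.mk P)
  haveI hy : y.IsMaximal := Ideal.comap_isMaximal_of_surjective _ Ideal.Quotient.mk_surjective
  have hPy : P ≤ y := fun x hx => by
    show Ideal.Quotient.mk P x ∈ m
    rw [Ideal.Quotient.eq_zero_iff_mem.2 hx]
    exact zero_mem _
  have hfy : f ∉ y := fun h => hfm (m.mul_mem_right _ h)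
  let C := Localization.AtPrime y ⧸ P.map (algebraMap A (Localization.AtPrime y))
  haveI : IsLocalization.AtPrime C m := by
    have h1 : IsLocalization (Algebra.algebraMapSubmonoid B y.primeCompl) C := inferInstance
    have h2 : Algebra.algebraMapSubmonoid B y.primeCompl = m.primeCompl := by
      ext x
      refine ⟨?_, fun hx => ?_⟩
      · rintro ⟨a, ha, rfl⟩
        exact ha
      · obtain ⟨a, rfl⟩ := Ideal.Quotient.mk_surjective x
        exact ⟨a, hx, rfl⟩
    show IsLocalization m.primeCompl C
    exact h2 ▸ h1
  haveI : IsRegularLocalRing C :=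
    IsRegularLocalRing.of_ringEquiv (IsLocalization.algEquiv m.primeCompl (Localization.AtPrime m) C).toRingEquiv
  -- lift a minimal system of parameters
  obtain ⟨S, hS, hSspan⟩ : ∃ S : Finset C, S.card = (maximalIdeal C).spanFinrank ∧
      Ideal.span (S : Set C) = maximalIdeal C := by
    have hfg : (maximalIdeal C).FG := (maximalIdeal C).fg_of_isNoetherianRing
    refine ⟨(Submodule.FG.finite_generators hfg).toFinset, ?_, ?_⟩
    · rw [← Submodule.FG.generators_ncard hfg, Set.ncard_eq_toFinset_card _ (Submodule.FG.finite_generators hfg)]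
    · rw [Set.Finite.coe_toFinset]
      exact Submodule.span_generators _
  choose σ hσ using Ideal.Quotient.mk_surjective (I := P.map (algebraMap A (Localization.AtPrime y)))
  let rs : List (Localization.AtPrime y) := S.toList.map σ
  have hmap : rs.map (algebraMap (Localization.AtPrime y) C) = S.toList := by
    rw [List.map_map]
    exact (List.map_congr_left fun c _ => hσ c).trans (List.map_id _)
  have hspan : Ideal.ofList S.toList = maximalIdeal C := by
    rw [← hSspan]
    unfold Ideal.ofList
    congr 1
    ext c
    simp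
  have hwr : IsWeaklyRegular C rs := by
    rw [← isWeaklyRegular_map_algebraMap_iff C C, hmap]
    exact CAlgGlobalDim.isWeaklyRegular_of_generators _ C S.toList rfl hspan (by rw [Finset.length_toList, hS])
  have hlen : Module.length (Localization.AtPrime y)
      (C ⧸ (Ideal.ofList rs • ⊤ : Submodule (Localization.AtPrime y) C)) = 1 := by
    rw [Module.length_eq_one_iff]
    have e1 : (Ideal.ofList rs • ⊤ : Submodule (Localization.AtPrime y) C) =
        (maximalIdeal C).restrictScalars (Localization.AtPrime y) := by
      rw [Ideal.smul_top_eq_map]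
      congr 1
      rw [← hspan, ← hmap, Ideal.map_ofList]
    let ψ : Localization.AtPrime y →ₗ[Localization.AtPrime y]
        C ⧸ (Ideal.ofList rs • ⊤ : Submodule (Localization.AtPrime y) C) :=
      (Submodule.mkQ _).comp (Algebra.linearMap _ C)
    have hψ : Function.Surjective ψ :=
      (Submodule.mkQ_surjective _).comp Ideal.Quotient.mk_surjective
    have hkerψ : LinearMap.ker ψ = (maximalIdeal C).comap (algebraMap (Localization.AtPrime y) C) := by
      ext z
      show Submodule.mkQ _ (algebraMap (Localization.AtPrime y) C z) = 0 ↔ _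
      rw [Submodule.mkQ_apply, Submodule.Quotient.mk_eq_zero, e1]
      rfl
    refine isSimpleModule_iff_quot_maximal.2 ⟨LinearMap.ker ψ, ?_, ⟨(ψ.quotKerEquivOfSurjective hψ).symm⟩⟩
    rw [hkerψ]
    exact Ideal.comap_isMaximal_of_surjective _ Ideal.Quotient.mk_surjective
  have hA := hf y hfy rs ⟨hwr, hlen⟩
  let ey : LocalizedModule y.primeCompl A ≃ₗ[Localization.AtPrime y] Localization.AtPrime y :=
    (IsLocalizedModule.linearEquiv y.primeCompl (LocalizedModule.mkLinearMap y.primeCompl A)
      (Algebra.linearMap A (Localization.AtPrime y))).extendScalarsOfIsLocalization y.primeCompl _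
  let eP : LocalizedModule P.primeCompl A ≃ₗ[Localization.AtPrime P] Localization.AtPrime P :=
    (IsLocalizedModule.linearEquiv P.primeCompl (LocalizedModule.mkLinearMap P.primeCompl A)
      (Algebra.linearMap A (Localization.AtPrime P))).extendScalarsOfIsLocalization P.primeCompl _
  obtain ⟨hw, hl⟩ := regLen_congr ey hA
  rw [eP.length_eq] at hl
  refine ⟨y, hy, rs, hPy, fun r hr => ?_, hw, ?_, ?_⟩
  · have hc : Ideal.Quotient.mk (P.map (algebraMap A (Localization.AtPrime y))) r ∈ maximalIdeal C := by
      rw [← hspan]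
      refine Ideal.subset_span ?_
      rw [← hmap]
      exact List.mem_map_of_mem (f := algebraMap (Localization.AtPrime y) C) hr
    rw [IsLocalRing.mem_maximalIdeal, mem_nonunits_iff] at hc ⊢
    exact fun h => hc (h.map _)
  · rw [← hl]
    exact (Submodule.quotEquivOfEq _ _ (by rw [smul_eq_mul, Ideal.mul_top])).length_eq
  · rw [← eP.length_eq]
    refine CycLib.length_localized_ne_top_of_minimal (M := A) ⟨P, ‹_›⟩ fun q _ hq => ?_
    exact PrimeSpectrum.ext (hmin q.asIdeal q.2 hq)

end Groth.Agent.MultIndex
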